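import Groth.Prelude.Def_EtRam
import Groth.Agent.Lib.Kummer21.Basic
import Mathlib

/-!
A field generated by roots of a uniformizer and of units, of orders invertible in the residue field,
is tamely ramified over the discrete valuation ring.
-/

set_option autoImplicit false
set_option linter.style.haveILetI false

universe u

open IsLocalRing

namespace GrothLib.TameKum21

/-- In a reduced artinian ring every element is regular in the sense of von Neumann. -/
theorem exists_mul_sq {Q : Type*} [CommRing Q] [IsArtinianRing Q] [IsReduced Q] (d : Q) :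
    ∃ q : Q, d = q * d ^ 2 := by
  obtain ⟨k, q, hq⟩ := IsArtinian.exists_pow_succ_smul_dvd d (1 : Q)
  refine ⟨q, ?_⟩
  simp only [smul_eq_mul, mul_one, Nat.succ_eq_add_one] at hq
  have h : d ^ (k + 1) - q * d ^ (k + 2) = 0 := by linear_combination -(d * hq)
  have h2 : (d - q * d ^ 2) ^ (k + 1) = 0 := by
    rw [show d - q * d ^ 2 = d * (1 - q * d) by ring, mul_pow, pow_succ (1 - q * d)]
    linear_combination (1 - q * d) ^ k * h
  exact sub_eq_zero.mp (IsNilpotent.eq_zero ⟨k + 1, h2⟩)

set_option maxHeartbeats 2000000 in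
set_option synthInstance.maxHeartbeats 100000 in
theorem ramification {R : Type u} [CommRing R] [IsDomain R] [IsDiscreteValuationRing R]
    {L : Type u} [Field L] (g : R →+* L) (hg : Function.Injective g) (π : R) (hπ : Irreducible π)
    {r : ℕ} (t : Fin r → L) (n : Fin r → ℕ) (i : Fin r) (hn : ∀ j, 1 ≤ n j)
    (hnu : ∀ j, IsUnit ((n j : ℕ) : R)) (hi : t i ^ n i = g π)
    (ho : ∀ j, j ≠ i → ∃ u : R, IsUnit u ∧ t j ^ n j = g u)
    (hgen : letI := g.toAlgebra
      ∀ x : L, ∃ a b : Algebra.adjoin R (Set.range t), (b : L) ≠ 0 ∧ x = (a : L) / (b : L)) :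
    ∀ (V : ValuationSubring L) (h : EtRam.Dominates R g V),
      letI : Algebra R V := (RingHom.codRestrict g V h.1).toAlgebra
      ∀ [IsLocalHom (algebraMap R V)], Algebra.IsSeparable (ResidueField R) (ResidueField V) ∧
        Ideal.ramificationIdx' (maximalIdeal R) (maximalIdeal V) = n i := by
  classical
  letI := g.toAlgebra
  intro V hV
  letI : Algebra R V := (RingHom.codRestrict g V hV.1).toAlgebra
  intro _
  set κ := ResidueField R
  -- the roots are integral
  have htV : ∀ j, t j ∈ V := by
    intro j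
    have hjn : t j ^ n j ∈ V := by
      by_cases h : j = i
      · subst h; rw [hi]; exact hV.1 π
      · obtain ⟨u, -, hu⟩ := ho j h; rw [hu]; exact hV.1 u
    rw [← ValuationSubring.valuation_le_one_iff] at hjn ⊢
    rw [map_pow] at hjn
    exact (pow_le_one_iff (Nat.one_le_iff_ne_zero.mp (hn j))).mp hjn
  let VA : Subalgebra R L := { V.toSubring with algebraMap_mem' := hV.1 }
  let D := Algebra.adjoin R (Set.range t)
  have hDV : D ≤ VA := Algebra.adjoin_le (by rintro _ ⟨j, rfl⟩; exact htV j)
  let ιV : D →+* V := RingHom.codRestrict D.val.toRingHom V fun d => hDV d.2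
  let ρ : D →+* ResidueField V := (residue V).comp ιV
  let m : Ideal D := RingHom.ker ρ
  haveI : m.IsPrime := RingHom.ker_isPrime ρ
  let T : Fin r → D := fun j => ⟨t j, Algebra.subset_adjoin ⟨j, rfl⟩⟩
  have hTi : T i ^ n i = algebraMap R D π := Subtype.ext hi
  have hTj : ∀ j, j ≠ i → ∃ u : R, IsUnit u ∧ T j ^ n j = algebraMap R D u := fun j hj => by
    obtain ⟨u, hu, e⟩ := ho j hj
    exact ⟨u, hu, Subtype.ext e⟩
  have hρR : ∀ a : R, ρ (algebraMap R D a) = ResidueField.map (algebraMap R V) (residue R a) := by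
    intro a
    rfl
  have hπm : algebraMap R D π ∈ m := by
    rw [RingHom.mem_ker, hρR, (residue_eq_zero_iff π).mpr ?_, map_zero]
    rw [hπ.maximalIdeal_eq]; exact Ideal.mem_span_singleton_self π
  have hTim : T i ∈ m := Ideal.IsPrime.mem_of_pow_mem inferInstance (n i) (hTi ▸ hπm)
  -- finiteness
  haveI hfin : Module.Finite R D := by
    suffices h : (Subalgebra.toSubmodule D).FG from Module.Finite.of_fg h
    refine fg_adjoin_of_finite (Set.finite_range t) ?_
    rintro _ ⟨j, rfl⟩
    obtain ⟨c, hc⟩ : ∃ c, t j ^ n j = g c := by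
      by_cases h : j = i
      · exact ⟨π, h ▸ hi⟩
      · obtain ⟨u, -, hu⟩ := ho j h; exact ⟨u, hu⟩
    exact ⟨Polynomial.X ^ n j - Polynomial.C c, Polynomial.monic_X_pow_sub_C c
      (Nat.one_le_iff_ne_zero.mp (hn j)), by
      simp only [Polynomial.eval₂_sub, Polynomial.eval₂_X_pow, Polynomial.eval₂_C]
      rw [hc]; exact sub_self _⟩
  haveI : IsNoetherianRing D := IsNoetherianRing.of_finite R D
  -- the quotient by the root of the uniformizer
  let J : Ideal D := Ideal.span {T i}
  let Q := D ⧸ J
  have hJπ : ∀ a ∈ maximalIdeal R, algebraMap R Q a = 0 := by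
    intro a ha
    rw [hπ.maximalIdeal_eq, Ideal.mem_span_singleton] at ha
    obtain ⟨c, rfl⟩ := ha
    rw [map_mul]
    have : algebraMap R Q π = 0 := by
      rw [IsScalarTower.algebraMap_apply R D Q, ← hTi, Ideal.Quotient.algebraMap_eq,
        Ideal.Quotient.eq_zero_iff_mem]
      exact Ideal.pow_mem_of_mem J (Ideal.mem_span_singleton_self _) _ (hn i)
    rw [this, zero_mul]
  letI : Algebra κ Q := (Ideal.Quotient.lift (maximalIdeal R) (algebraMap R Q) hJπ).toAlgebra
  haveI : IsScalarTower R κ Q := IsScalarTower.of_algebraMap_eq fun _ => rfl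
  haveI : Module.Finite R Q := Module.Finite.of_surjective (Ideal.Quotient.mkₐ R J).toLinearMap
    Ideal.Quotient.mk_surjective
  haveI : Module.Finite κ Q := Module.Finite.of_restrictScalars_finite R κ Q
  haveI : IsArtinianRing Q := IsArtinianRing.of_finite κ Q
  haveI : Algebra.FormallyUnramified κ Q := by
    rw [Algebra.FormallyUnramified.iff_comp_injective]
    intro S _ _ I hI φ ψ h
    have hgen : ∀ j, φ (Ideal.Quotient.mk J (T j)) = ψ (Ideal.Quotient.mk J (T j)) := by
      intro j
      by_cases hj : j = i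
      · subst hj
        have : (Ideal.Quotient.mk J (T j) : Q) = 0 :=
          Ideal.Quotient.eq_zero_iff_mem.mpr (Ideal.mem_span_singleton_self _)
        rw [this, map_zero, map_zero]
      · obtain ⟨u, hu, e⟩ := hTj j hj
        have hpow : ∀ χ : Q →ₐ[κ] S, χ (Ideal.Quotient.mk J (T j)) ^ n j =
            algebraMap κ S (residue R u) := fun χ => by
          rw [← map_pow, ← map_pow, e, ← χ.commutes]
          rfl
        have hI' : φ (Ideal.Quotient.mk J (T j)) - ψ (Ideal.Quotient.mk J (T j)) ∈ I :=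
          Ideal.Quotient.eq.1 (congrArg (fun F : Q →ₐ[κ] S ⧸ I => F (Ideal.Quotient.mk J (T j))) h)
        refine (GrothLib.Kummer21.existsUnique_root I hI
          (by simpa using (hnu j).map ((algebraMap κ S).comp (residue R))) _
          ((hu.map (residue R)).map (algebraMap κ S)) (ψ (Ideal.Quotient.mk J (T j)))
          (by rw [hpow]; simp)).unique ⟨hI', hpow φ⟩ ⟨by simp, hpow ψ⟩
    refine AlgHom.ext fun q => ?_
    obtain ⟨⟨d, hd⟩, rfl⟩ := Ideal.Quotient.mk_surjective q
    induction hd using Algebra.adjoin_induction with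
    | mem x hx => obtain ⟨j, rfl⟩ := hx; exact hgen j
    | algebraMap a =>
      show φ (algebraMap R Q a) = ψ (algebraMap R Q a)
      rw [IsScalarTower.algebraMap_apply R κ Q, φ.commutes, ψ.commutes]
    | add x y hx hy ihx ihy =>
      show φ (Ideal.Quotient.mk J (⟨x, hx⟩ + ⟨y, hy⟩)) = ψ (Ideal.Quotient.mk J (⟨x, hx⟩ + ⟨y, hy⟩))
      rw [map_add, map_add, map_add, ihx, ihy]
    | mul x y hx hy ihx ihy =>
      show φ (Ideal.Quotient.mk J (⟨x, hx⟩ * ⟨y, hy⟩)) = ψ (Ideal.Quotient.mk J (⟨x, hx⟩ * ⟨y, hy⟩))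
      rw [map_mul, map_mul, map_mul, ihx, ihy]
  haveI : IsReduced Q := Algebra.FormallyUnramified.isReduced_of_field κ Q
  -- the local ring at the centre
  have hcl : ∀ d ∈ m, ∃ s, s ∉ m ∧ s * d ∈ J := by
    intro d hd
    obtain ⟨q, hq⟩ := exists_mul_sq (Ideal.Quotient.mk J d)
    obtain ⟨q, rfl⟩ := Ideal.Quotient.mk_surjective q
    refine ⟨1 - q * d, fun h => ?_, ?_⟩
    · have : (1 : D) ∈ m := by simpa using m.add_mem h (m.mul_mem_left q hd)
      exact Ideal.IsPrime.ne_top inferInstance ((Ideal.eq_top_iff_one m).mpr this)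
    · rw [← Ideal.Quotient.eq_zero_iff_mem, map_mul, map_sub, map_one, map_mul]
      linear_combination hq
  let P := Localization.AtPrime m
  let w : P := algebraMap D P (T i)
  have hmax : maximalIdeal P = Ideal.span {w} := by
    rw [← IsLocalization.AtPrime.map_eq_maximalIdeal m]
    refine le_antisymm ?_ ?_
    · rw [Ideal.map_le_iff_le_comap]
      intro d hd
      obtain ⟨s, hs, hsd⟩ := hcl d hd
      obtain ⟨c, hc⟩ := Ideal.mem_span_singleton'.mp hsd
      rw [Ideal.mem_comap]
      refine (Ideal.unit_mul_mem_iff_mem _ (IsLocalization.map_units P (⟨s, hs⟩ : m.primeCompl))).mp ?_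
      rw [← map_mul, ← hc, map_mul]
      exact Ideal.mul_mem_left _ _ (Ideal.mem_span_singleton_self _)
    · rw [Ideal.span_le, Set.singleton_subset_iff]
      exact Ideal.mem_map_of_mem _ hTim
  have hTi0 : t i ≠ 0 := fun h0 => by
    rw [h0, zero_pow (Nat.one_le_iff_ne_zero.mp (hn i))] at hi
    exact hπ.ne_zero (hg (by rw [← hi, map_zero]))
  have hfrac : ∀ y : m.primeCompl, IsUnit (D.val.toRingHom y) := fun y => isUnit_iff_ne_zero.mpr
    fun h0 => y.2 (by rw [show (y : D) = 0 from Subtype.ext h0]; exact m.zero_mem)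
  let ψ : P →+* L := IsLocalization.lift (M := m.primeCompl) hfrac
  haveI : IsNoetherianRing P := IsLocalization.isNoetherianRing m.primeCompl P inferInstance
  haveI : IsDiscreteValuationRing P := by
    have hnf : ¬ IsField P := by
      rw [IsLocalRing.isField_iff_maximalIdeal_eq, hmax, Ideal.span_singleton_eq_bot]
      intro h0
      have := congrArg ψ h0
      rw [IsLocalization.lift_eq, map_zero] at this
      exact hTi0 this
    refine ((IsDiscreteValuationRing.TFAE P hnf).out 0 4).mpr ?_
    exact ⟨⟨w, hmax⟩⟩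
  have hw : Irreducible w := (IsDiscreteValuationRing.irreducible_iff_uniformizer w).mpr hmax
  have hstruct : ∀ z : D, (z : L) ≠ 0 → ∃ (k : ℕ) (a b : D), a ∉ m ∧ b ∉ m ∧
      (z : L) * b = a * t i ^ k := by
    intro z hz
    have hz' : algebraMap D P z ≠ 0 := fun h0 => hz (by
      have := congrArg ψ h0
      rwa [IsLocalization.lift_eq, map_zero] at this)
    obtain ⟨k, u, hu⟩ := IsDiscreteValuationRing.eq_unit_mul_pow_irreducible hz' hw
    obtain ⟨a, b, hab⟩ := IsLocalization.exists_mk'_eq m.primeCompl (u : P)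
    have ha : a ∉ m := (IsLocalization.AtPrime.isUnit_mk'_iff P m a b).mp (hab ▸ u.isUnit)
    refine ⟨k, a, b, ha, b.2, ?_⟩
    have h2 := congrArg (fun x => ψ (x * algebraMap D P b)) hu
    have hub : (u : P) * algebraMap D P b = algebraMap D P a := by
      rw [← hab, IsLocalization.mk'_spec]
    rw [mul_right_comm, hub] at h2
    simp only [map_mul, map_pow, w, ψ, IsLocalization.lift_eq] at h2
    exact h2
  have hval1 : ∀ a : D, a ∉ m → V.valuation (a : L) = 1 := by
    intro a ha
    refine le_antisymm ((ValuationSubring.valuation_le_one_iff V _).mpr (hDV a.2)) (not_lt.mp fun h => ha ?_)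
    rw [RingHom.mem_ker]
    show residue V (ιV a) = 0
    rw [residue_eq_zero_iff]
    exact (ValuationSubring.valuation_lt_one_iff V _).mpr h
  have hvt : V.valuation (t i) < 1 := by
    have h : ιV (T i) ∈ maximalIdeal V := (residue_eq_zero_iff _).mp hTim
    exact (ValuationSubring.valuation_lt_one_iff V _).mp h
  -- every element of `V` is a fraction with denominator outside the centre
  have hV' : ∀ x : V, ∃ (k : ℕ) (a b : D), b ∉ m ∧ (x : L) * b = a * t i ^ k ∧
      ((x : L) ≠ 0 → a ∉ m) := by
    intro x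
    by_cases hx : (x : L) = 0
    · exact ⟨0, 0, 1, fun h => Ideal.IsPrime.ne_top inferInstance ((Ideal.eq_top_iff_one m).mpr h),
        by simp [hx], fun h => absurd hx h⟩
    obtain ⟨a, b, hb, hab⟩ := hgen (x : L)
    have ha : (a : L) ≠ 0 := fun h => hx (by rw [hab, h, zero_div])
    obtain ⟨ka, a₁, a₂, ha₁, ha₂, ea⟩ := hstruct a ha
    obtain ⟨kb, b₁, b₂, hb₁, hb₂, eb⟩ := hstruct b hb
    have ha₂0 : (a₂ : L) ≠ 0 := fun h => ha₂ (by rw [show a₂ = 0 from Subtype.ext h]; exact m.zero_mem)
    have hb₁0 : (b₁ : L) ≠ 0 := fun h => hb₁ (by rw [show b₁ = 0 from Subtype.ext h]; exact m.zero_mem)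
    have e : (x : L) * (b₁ * a₂ : D) * t i ^ kb = (a₁ * b₂ : D) * t i ^ ka := by
      have hxb : (x : L) * b = a := by rw [hab, div_mul_cancel₀ _ hb]
      push_cast
      linear_combination (-(x : L) * a₂) * eb + (a₂ * b₂ : L) * hxb + (b₂ : L) * ea
    have hk : kb ≤ ka := by
      by_contra hc
      push Not at hc
      have hle : V.valuation ((a₁ * b₂ : D) * t i ^ ka) ≤ V.valuation (t i) ^ kb := by
        rw [← e, map_mul, map_pow, map_mul]
        calc V.valuation (x : L) * V.valuation ((b₁ * a₂ : D) : L) * V.valuation (t i) ^ kb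
            ≤ 1 * 1 * V.valuation (t i) ^ kb := by
              gcongr
              · exact (ValuationSubring.valuation_le_one_iff V _).mpr x.2
              · exact (ValuationSubring.valuation_le_one_iff V _).mpr (hDV (b₁ * a₂).2)
          _ = V.valuation (t i) ^ kb := by rw [one_mul, one_mul]
      rw [map_mul, map_pow, hval1 _ (fun h => (Ideal.IsPrime.mem_or_mem inferInstance h).elim ha₁ hb₂),
        one_mul] at hle
      have hpos : (0 : _) < V.valuation (t i) := zero_lt_iff.mpr ((Valuation.ne_zero_iff _).mpr hTi0)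
      exact absurd hle (not_le.mpr (pow_lt_pow_right_of_lt_one₀ hpos hvt hc))
    refine ⟨ka - kb, a₁ * b₂, b₁ * a₂,
      fun h => (Ideal.IsPrime.mem_or_mem inferInstance h).elim hb₁ ha₂, ?_,
      fun _ h => (Ideal.IsPrime.mem_or_mem inferInstance h).elim ha₁ hb₂⟩
    refine mul_right_cancel₀ (pow_ne_zero kb hTi0) ?_
    rw [e, mul_assoc _ (t i ^ (ka - kb)), ← pow_add, Nat.sub_add_cancel hk]
  refine ⟨?_, ?_⟩
  · -- separability
    have hroot : ∀ j, IsSeparable κ (ρ (T j)) := by
      intro j
      by_cases hj : j = i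
      · subst hj
        rw [show ρ (T j) = 0 from hTim, ← map_zero (algebraMap κ (ResidueField V))]
        exact isSeparable_algebraMap 0
      · obtain ⟨u, hu, e⟩ := hTj j hj
        have he : (Polynomial.X ^ n j - Polynomial.C (residue R u)).Separable :=
          Polynomial.separable_X_pow_sub_C _ (by simpa using ((hnu j).map (residue R)).ne_zero)
            ((hu.map (residue R)).ne_zero)
        refine he.of_dvd (minpoly.dvd κ _ ?_)
        rw [map_sub, map_pow, Polynomial.aeval_X, Polynomial.aeval_C, ← map_pow ρ, e, hρR]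
        exact sub_self _
    have hD : ∀ d : D, ρ d ∈ separableClosure κ (ResidueField V) := by
      rintro ⟨d, hd⟩
      induction hd using Algebra.adjoin_induction with
      | mem x hx => obtain ⟨j, rfl⟩ := hx; exact hroot j
      | algebraMap a =>
        rw [show (⟨algebraMap R L a, _⟩ : D) = algebraMap R D a from rfl, hρR]
        exact IntermediateField.algebraMap_mem _ _
      | add x y hx hy ihx ihy =>
        rw [show (⟨x + y, _⟩ : D) = ⟨x, hx⟩ + ⟨y, hy⟩ from rfl, map_add]
        exact add_mem ihx ihy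
      | mul x y hx hy ihx ihy =>
        rw [show (⟨x * y, _⟩ : D) = ⟨x, hx⟩ * ⟨y, hy⟩ from rfl, map_mul]
        exact mul_mem ihx ihy
    refine ⟨fun z => ?_⟩
    obtain ⟨x, rfl⟩ := residue_surjective z
    obtain ⟨k, a, b, hb, e, -⟩ := hV' x
    have e' : x * ιV b = ιV (a * T i ^ k) := Subtype.ext (by simpa [ιV] using e)
    have hb' : ρ b ≠ 0 := hb
    have h3 : residue V x = ρ (a * T i ^ k) * (ρ b)⁻¹ := by
      have := congrArg (residue V) e'
      rw [map_mul] at this
      rw [eq_mul_inv_iff_mul_eq₀ hb']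
      exact this
    rw [← mem_separableClosure_iff, h3]
    exact mul_mem (hD _) (inv_mem (hD b))
  · -- the ramification index is `n i`
    let τ : V := ⟨t i, htV i⟩
    have hmV : maximalIdeal V = Ideal.span {τ} := by
      refine le_antisymm (fun x hx => ?_) ?_
      · obtain ⟨k, a, b, hb, e, ha⟩ := hV' x
        by_cases hx0 : (x : L) = 0
        · rw [show x = 0 from Subtype.ext hx0]; exact zero_mem _
        have e' : x * ιV b = ιV a * τ ^ k := Subtype.ext (by simpa [ιV, τ] using e)
        have hub : IsUnit (ιV b) := by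
          by_contra hc
          exact hb ((residue_eq_zero_iff _).mpr hc)
        rcases k with _ | k
        · exfalso
          refine ha hx0 ((residue_eq_zero_iff _).mpr ?_)
          rw [pow_zero, mul_one] at e'
          rw [← e']
          exact Ideal.mul_mem_right _ _ hx
        · refine (Ideal.mul_unit_mem_iff_mem _ hub).mp ?_
          rw [e', pow_succ, ← mul_assoc]
          exact Ideal.mul_mem_left _ _ (Ideal.mem_span_singleton_self τ)
      · rw [Ideal.span_le, Set.singleton_subset_iff]
        exact (residue_eq_zero_iff _).mp hTim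
    have hτu : ¬ IsUnit τ := (residue_eq_zero_iff _).mp hTim
    have hmap : Ideal.map (algebraMap R V) (maximalIdeal R) = maximalIdeal V ^ n i := by
      rw [hπ.maximalIdeal_eq, Ideal.map_span, Set.image_singleton, hmV, Ideal.span_singleton_pow,
        show τ ^ n i = algebraMap R V π from Subtype.ext hi]
    have hidx : Ideal.ramificationIdx' (maximalIdeal R) (maximalIdeal V) = n i := by
      refine Ideal.ramificationIdx'_spec hmap.le fun h => hτu ?_
      rw [hmap, hmV, Ideal.span_singleton_pow, Ideal.span_singleton_pow,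
        Ideal.span_singleton_le_span_singleton] at h
      obtain ⟨c, hc⟩ := h
      rw [pow_succ, mul_assoc] at hc
      have hne : τ ^ n i ≠ 0 := pow_ne_zero _ fun h0 => hTi0 (congrArg Subtype.val h0)
      refine IsUnit.of_mul_eq_one c ?_
      exact mul_left_cancel₀ hne (hc.symm.trans (mul_one _).symm)
    exact hidx

theorem isTamelyRamified {R : Type u} [CommRing R] [IsDomain R] [IsDiscreteValuationRing R]
    {L : Type u} [Field L] (g : R →+* L) (hg : Function.Injective g) (π : R) (hπ : Irreducible π)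
    {r : ℕ} (t : Fin r → L) (n : Fin r → ℕ) (i : Fin r) (hn : ∀ j, 1 ≤ n j)
    (hnu : ∀ j, IsUnit ((n j : ℕ) : R)) (hi : t i ^ n i = g π)
    (ho : ∀ j, j ≠ i → ∃ u : R, IsUnit u ∧ t j ^ n j = g u)
    (hgen : letI := g.toAlgebra
      ∀ x : L, ∃ a b : Algebra.adjoin R (Set.range t), (b : L) ≠ 0 ∧ x = (a : L) / (b : L)) :
    EtRam.IsTamelyRamified R g := by
  intro V hV
  letI : Algebra R V := (RingHom.codRestrict g V hV.1).toAlgebra
  intro _
  obtain ⟨hs, he⟩ := ramification g hg π hπ t n i hn hnu hi ho hgen V hV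
  refine ⟨hs, fun p hp hchar => ?_⟩
  rw [he]
  rintro ⟨c, hc⟩
  haveI := hchar
  have := ((hnu i).map (residue R)).ne_zero
  rw [map_natCast, hc, Nat.cast_mul, CharP.cast_eq_zero (ResidueField R) p, zero_mul] at this
  exact this rfl

end GrothLib.TameKum21
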